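import Groth.Agent.CAlgPts.Plane
import Groth.Agent.Gen15.FiniteProj
import Mathlib

/-! Singular points of a reduced plane curve of degree four. -/

namespace Groth.Agent.PlaneQuartic15

open MvPolynomial
open scoped Classical

universe u
variable {k : Type u} [Field k]

/-- directional derivative at a point -/
noncomputable def dv (v p : Fin 3 → k) : MvPolynomial (Fin 3) k →ₗ[k] k :=
  ∑ i, v i • ((aeval p).toLinearMap.comp (pderiv i).toLinearMap)

theorem dv_apply (v p : Fin 3 → k) (P : MvPolynomial (Fin 3) k) :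
    dv v p P = ∑ i, v i * eval p (pderiv i P) := by
  simp [dv, LinearMap.sum_apply, aeval_eq_eval]

theorem dv_mul (v p : Fin 3 → k) (P Q : MvPolynomial (Fin 3) k) :
    dv v p (P * Q) = dv v p P * eval p Q + eval p P * dv v p Q := by
  simp only [dv_apply, pderiv_mul, map_add, map_mul, Finset.sum_mul, Finset.mul_sum, ← Finset.sum_add_distrib]
  exact Finset.sum_congr rfl fun i _ => by ring

theorem dv_linForm (v p : Fin 3 → k) (φ : (Fin 3 → k) →ₗ[k] k) :
    dv v p (CAlgPts.linForm φ) = φ v := by
  have h : ∀ i, eval p (pderiv i (CAlgPts.linForm φ)) = φ (Pi.single i 1) := fun i => by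
    simp [CAlgPts.linForm, pderiv_X, Pi.single_apply]
  rw [dv_apply]
  conv_rhs => rw [← Finset.univ_sum_single v, map_sum]
  refine Finset.sum_congr rfl fun i _ => ?_
  rw [h, ← smul_eq_mul, ← map_smul, ← Pi.single_smul, smul_eq_mul, mul_one]

/-- An irreducible polynomial over a perfect field has a nonzero partial derivative. -/
theorem exists_pderiv_ne [PerfectField k] {σ : Type} [Fintype σ] {g : MvPolynomial σ k} (hg : Irreducible g) :
    ∃ i, pderiv i g ≠ 0 := by
  by_contra hc
  push Not at hc
  have hsupp : ∀ s ∈ g.support, ∀ i, ((s i : ℕ) : k) = 0 := by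
    intro s hs i
    by_contra hne
    have hpos : s i ≠ 0 := fun h => hne (by rw [h]; simp)
    have h := congrArg (coeff (s - Finsupp.single i 1)) (hc i)
    rw [coeff_pderiv, coeff_zero, tsub_add_cancel_of_le (Finsupp.single_le_iff.2 (Nat.pos_of_ne_zero hpos))] at h
    rcases mul_eq_zero.1 h with h | h
    · exact mem_support_iff.1 hs h
    · refine hne ?_
      rw [show s i = (s - Finsupp.single i 1 : σ →₀ ℕ) i + 1 by simp; omega]
      exact_mod_cast h
  obtain ⟨p, hp⟩ := CharP.exists k
  rcases CharP.char_is_prime_or_zero k p with hpp | rfl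
  · haveI : Fact p.Prime := ⟨hpp⟩
    haveI : ExpChar k p := ExpChar.prime hpp
    haveI : CharP (MvPolynomial σ k) p := inferInstance
    haveI : PerfectRing k p := PerfectField.toPerfectRing p
    have hroot : ∀ c : k, ∃ r, r ^ p = c := fun c => ⟨(frobeniusEquiv k p).symm c, by simp⟩
    choose r hr using hroot
    let h : MvPolynomial σ k := ∑ s ∈ g.support,
      monomial (s.mapRange (fun t => t / p) (Nat.zero_div p)) (r (coeff s g))
    have hgh : g = h ^ p := by
      rw [sum_pow_char]
      conv_lhs => rw [g.as_sum]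
      refine Finset.sum_congr rfl fun s hs => ?_
      rw [monomial_pow, hr]
      have e : p • s.mapRange (fun t => t / p) (Nat.zero_div p) = s := Finsupp.ext fun i => by
        simp [Nat.mul_div_cancel' ((CharP.cast_eq_zero_iff k p _).1 (hsupp s hs i))]
      rw [e]
    exact hg.not_isUnit (by
      rcases (hgh ▸ hg).isUnit_or_isUnit (show h ^ p = h * h ^ (p - 1) by
        rw [← pow_succ', Nat.sub_add_cancel hpp.one_le]) with hu | hu
      · rw [hgh]; exact hu.pow p
      · rw [hgh]; exact ((isUnit_pow_iff (by have := hpp.two_le; omega)).1 hu).pow p)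
  · haveI : CharZero k := CharP.charP_to_charZero k
    refine hg.not_isUnit ?_
    have : g = C (coeff 0 g) := by
      ext s
      rw [coeff_C]
      split_ifs with h
      · rw [h]
      · by_contra hne
        refine h (Finsupp.ext fun i => ?_)
        exact (Nat.cast_eq_zero.1 (hsupp s (mem_support_iff.2 hne) i)).symm
    rw [this]
    exact (isUnit_iff_ne_zero.2 fun h0 => hg.ne_zero (by rw [this, h0, map_zero])).map C

/-- Some combination of the partial derivatives has no common factor with a reduced form. -/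
theorem exists_polar [Infinite k] [PerfectField k] {n : ℕ} (F : MvPolynomial (Fin n) k) (hF : F ≠ 0)
    (hred : Squarefree F) :
    ∃ c : Fin n → k, IsRelPrime F (∑ i, c i • pderiv i F) := by
  let s := (UniqueFactorizationMonoid.factors F).toFinset
  let W : MvPolynomial (Fin n) k → Submodule k (Fin n → k) := fun g =>
    ((Ideal.span {g}).restrictScalars k).comap (Fintype.linearCombination k fun i => pderiv i F)
  have hW : ∀ g ∈ s, W g ≠ ⊤ := by
    intro g hgs h
    rw [Multiset.mem_toFinset] at hgs
    have hirr := UniqueFactorizationMonoid.irreducible_of_factor g hgs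
    obtain ⟨h', hh'⟩ := UniqueFactorizationMonoid.dvd_of_mem_factors hgs
    obtain ⟨i, hi⟩ := exists_pderiv_ne hirr
    have hdvd : g ∣ pderiv i F := by
      have hm : Pi.single i (1 : k) ∈ W g := h ▸ Submodule.mem_top
      simp only [W, Submodule.mem_comap, Submodule.restrictScalars_mem, Ideal.mem_span_singleton,
        Fintype.linearCombination_apply_single, one_smul] at hm
      exact hm
    rw [hh', pderiv_mul, dvd_add_left (Dvd.intro _ rfl)] at hdvd
    rcases (UniqueFactorizationMonoid.irreducible_iff_prime.1 hirr).dvd_or_dvd hdvd with h1 | h1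
    · obtain ⟨q, hq⟩ := h1
      have hlt : (pderiv i g).totalDegree < g.totalDegree := by
        have hq0 : q ≠ 0 := fun h0 => hi (by rw [hq, h0, mul_zero])
        have h2 := totalDegree_mul_of_isDomain hirr.ne_zero hq0
        rw [← hq] at h2
        obtain ⟨m, hm, hmd⟩ := Finset.exists_mem_eq_sup (pderiv i g).support (support_nonempty.2 hi)
          (fun s => s.sum fun _ e => e)
        have hg' : m + Finsupp.single i 1 ∈ g.support := by
          rw [mem_support_iff]
          intro h0
          rw [mem_support_iff, coeff_pderiv, h0, zero_mul] at hm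
          exact hm rfl
        have h3 := le_totalDegree hg'
        rw [Finsupp.sum_add_index' (fun _ => rfl) (fun _ _ _ => rfl), Finsupp.sum_single_index rfl] at h3
        have h4 : (pderiv i g).totalDegree = m.sum fun _ e => e := hmd
        omega
      have hq0 : q ≠ 0 := fun h0 => hi (by rw [hq, h0, mul_zero])
      have h2 := totalDegree_mul_of_isDomain hirr.ne_zero hq0
      rw [← hq] at h2
      omega
    · obtain ⟨q, hq⟩ := h1
      exact hirr.not_isUnit (hred g ⟨q, by rw [hh', hq, mul_assoc]⟩)
  obtain ⟨c, hc⟩ : ∃ c : Fin n → k, ∀ g ∈ s, c ∉ W g := by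
    by_contra hcon
    push Not at hcon
    have hcov : ⋃ g : s, ((W g.1 : Submodule k (Fin n → k)) : Set (Fin n → k)) = Set.univ :=
      Set.eq_univ_of_forall fun c => by
        obtain ⟨g, hg, hgc⟩ := hcon c
        exact Set.mem_iUnion.2 ⟨⟨g, hg⟩, hgc⟩
    obtain ⟨g, hg⟩ := Subspace.exists_eq_top_of_iUnion_eq_univ hcov
    exact hW g.1 g.2 hg
  refine ⟨c, (UniqueFactorizationMonoid.isRelPrime_iff_no_prime_factors hF).2 fun d hd hd' hprime => ?_⟩
  obtain ⟨g, hg, hgd⟩ := UniqueFactorizationMonoid.exists_mem_factors_of_dvd hF hprime.irreducible hd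
  refine hc g (Multiset.mem_toFinset.2 hg) ?_
  simp only [W, Submodule.mem_comap, Submodule.restrictScalars_mem, Ideal.mem_span_singleton,
    Fintype.linearCombination_apply]
  exact hgd.symm.dvd.trans hd'

variable (k) in
/-- forms of degree `d` -/
abbrev Fm (d : ℕ) := homogeneousSubmodule (Fin 3) k d

/-- the forms of degree 13 in `(F, G)` -/
noncomputable def combMap (F G : MvPolynomial (Fin 3) k) :
    (Fm k 9 × Fm k 10) →ₗ[k] MvPolynomial (Fin 3) k :=
  ((LinearMap.mulRight k F).comp (Fm k 9).subtype).coprod ((LinearMap.mulRight k G).comp (Fm k 10).subtype)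

theorem finite_fm (d : ℕ) : Module.Finite k ↥(Fm k d) := Module.Finite.iff_fg.2 (homogeneousSubmodule_fg _ _ _)

theorem finrank_range_comb {F G : MvPolynomial (Fin 3) k} (hF : F.IsHomogeneous 4) (hF0 : F ≠ 0)
    (hrel : IsRelPrime F G) : 93 ≤ Module.finrank k (LinearMap.range (combMap F G)) := by
  haveI := finite_fm (k := k) 9
  haveI := finite_fm (k := k) 10
  haveI := finite_fm (k := k) 6
  have hker : Module.finrank k (LinearMap.ker (combMap F G)) ≤ 28 := by
    let ψ : LinearMap.ker (combMap F G) →ₗ[k] MvPolynomial (Fin 3) k :=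
      (Fm k 10).subtype.comp ((LinearMap.snd k _ _).comp (Submodule.subtype _))
    have hψ : Function.Injective ψ := fun x y hxy => by
      obtain ⟨⟨a, b⟩, hab⟩ := x
      obtain ⟨⟨a', b'⟩, hab'⟩ := y
      change (b : MvPolynomial (Fin 3) k) = (b' : MvPolynomial (Fin 3) k) at hxy
      have h0 : (a : MvPolynomial (Fin 3) k) * F + (b : MvPolynomial (Fin 3) k) * G = 0 := LinearMap.mem_ker.1 hab
      have h0' : (a' : MvPolynomial (Fin 3) k) * F + (b' : MvPolynomial (Fin 3) k) * G = 0 := LinearMap.mem_ker.1 hab'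
      have ha : a = a' := Subtype.ext (mul_right_cancel₀ hF0 (by rw [hxy] at h0; exact add_right_cancel (h0.trans h0'.symm)))
      have hb : b = b' := Subtype.ext hxy
      subst ha hb
      rfl
    have hrange : LinearMap.range ψ ≤ (Fm k 6).map (LinearMap.mulRight k F) := by
      rintro _ ⟨⟨⟨a, b⟩, hab⟩, rfl⟩
      have h0 : (a : MvPolynomial (Fin 3) k) * F + (b : MvPolynomial (Fin 3) k) * G = 0 := LinearMap.mem_ker.1 hab
      obtain ⟨c, hc⟩ : F ∣ (b : MvPolynomial (Fin 3) k) := hrel.dvd_of_dvd_mul_right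
        ⟨-a, by linear_combination h0⟩
      refine ⟨homogeneousComponent 6 c, homogeneousComponent_mem 6 c, ?_⟩
      show homogeneousComponent 6 c * F = b
      have h1 := Gen15.homogeneousComponent_mul_hom hF 10 c
      rw [if_pos (by omega), mul_comm c F, ← hc, homogeneousComponent_of_mem b.2, if_pos rfl] at h1
      exact h1.symm
    haveI : Module.Finite k ↥((Fm k 6).map (LinearMap.mulRight k F)) := Module.Finite.map _ _
    calc Module.finrank k (LinearMap.ker (combMap F G)) = Module.finrank k (LinearMap.range ψ) :=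
          (LinearMap.finrank_range_of_inj hψ).symm
      _ ≤ Module.finrank k ↥((Fm k 6).map (LinearMap.mulRight k F)) := Submodule.finrank_mono hrange
      _ ≤ Module.finrank k ↥(Fm k 6) := Submodule.finrank_map_le _ _
      _ = 28 := by rw [CAlgPts.finrank_forms]; rfl
  have h := LinearMap.finrank_range_add_finrank_ker (combMap F G)
  have h9 : Module.finrank k ↥(Fm k 9) = 55 := (CAlgPts.finrank_forms 9).trans rfl
  have h10 : Module.finrank k ↥(Fm k 10) = 66 := (CAlgPts.finrank_forms 10).trans rfl
  rw [Module.finrank_prod, h9, h10] at h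
  omega

/-- A reduced quartic has no seven singular points. -/
theorem no_seven [IsAlgClosed k] {F : MvPolynomial (Fin 3) k} (hF : F.IsHomogeneous 4) (hred : Squarefree F)
    (p : Fin 7 → Fin 3 → k) (hp : ∀ a, p a ≠ 0) (hdist : ∀ a b, a ≠ b → p a ∉ Submodule.span k {p b})
    (h0 : ∀ a, eval (p a) F = 0) (h1 : ∀ a i, eval (p a) (pderiv i F) = 0) : False := by
  have hF0 : F ≠ 0 := hred.ne_zero
  obtain ⟨c, hc⟩ := exists_polar F hF0 hred
  set G := ∑ i, c i • pderiv i F with hG
  have hGh : G.IsHomogeneous 3 := IsHomogeneous.sum _ _ _ fun i _ => by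
    rw [smul_eq_C_mul]; exact hF.pderiv.C_mul _
  have hG0 : ∀ a, eval (p a) G = 0 := fun a => by simp [hG, h1]
  -- tangent directions
  have hv : ∀ a, ∃ v : Fin 3 → k, v ∉ Submodule.span k {p a} ∧ dv v (p a) G = 0 := by
    intro a
    let g : (Fin 3 → k) →ₗ[k] k := Fintype.linearCombination k fun i => eval (p a) (pderiv i G)
    have hker : 2 ≤ Module.finrank k (LinearMap.ker g) := by
      have h := LinearMap.finrank_range_add_finrank_ker g
      rw [Module.finrank_fin_fun] at h
      have := Submodule.finrank_le (LinearMap.range g)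
      rw [Module.finrank_self] at this
      omega
    obtain ⟨v, hv, hvn⟩ : ∃ v ∈ LinearMap.ker g, v ∉ Submodule.span k {p a} := SetLike.not_le_iff_exists.1 fun hle => by
      have := Submodule.finrank_mono hle
      rw [finrank_span_singleton (hp a)] at this
      omega
    refine ⟨v, hvn, ?_⟩
    rw [dv_apply]
    exact (Fintype.linearCombination_apply k _ v).symm.trans hv
  choose v hvn hv0 using hv
  let Λ : MvPolynomial (Fin 3) k →ₗ[k] (Fin 7 → k × k) :=
    LinearMap.pi fun a => (aeval (p a)).toLinearMap.prod (dv (v a) (p a))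
  have hΛ : ∀ P a, Λ P a = (eval (p a) P, dv (v a) (p a) P) := fun P a => by simp [Λ, aeval_eq_eval]
  -- the combinations are killed
  have hkill : LinearMap.range (combMap F G) ≤ Fm k 13 ⊓ LinearMap.ker Λ := by
    rintro _ ⟨⟨a, b⟩, rfl⟩
    change (a : MvPolynomial (Fin 3) k) * F + (b : MvPolynomial (Fin 3) k) * G ∈ _
    refine ⟨Submodule.add_mem _ (a.2.mul hF) (b.2.mul hGh), funext fun x => ?_⟩
    have hdF : dv (v x) (p x) F = 0 := by simp [dv_apply, h1]
    rw [hΛ]
    simp [dv_mul, h0, hG0, hdF, hv0]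
  -- interpolation
  have hsep : ∀ a b, a ≠ b → ∃ φ : (Fin 3 → k) →ₗ[k] k, φ (p a) ≠ 0 ∧ φ (p b) = 0 := fun a b h => by
    obtain ⟨φ, h1, h2⟩ := CAlgPts.exists_sep (hdist a b h)
    exact ⟨φ, h1, h2 _ (Submodule.mem_span_singleton_self _)⟩
  have hsurj : ∀ y : Fin 7 → k × k, ∃ P ∈ Fm k 13, Λ P = y := by
    have hone : ∀ a (y : k × k), ∃ P ∈ Fm k 13, Λ P = Pi.single a y := by
      intro a y
      choose φ hφ1 hφ2 using fun b : {b // b ≠ a} => hsep a b.1 b.2.symm
      let H : MvPolynomial (Fin 3) k := ∏ b : {b // b ≠ a}, CAlgPts.linForm (φ b) ^ 2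
      have hHh : H.IsHomogeneous 12 := by
        have := IsHomogeneous.prod Finset.univ (fun b : {b // b ≠ a} => CAlgPts.linForm (φ b) ^ 2) (fun _ => 2)
          (fun b _ => (CAlgPts.linForm_isHomogeneous (φ b)).pow 2)
        simpa [Fintype.card_subtype_compl] using this
      have hHa : eval (p a) H ≠ 0 := by
        simp only [H, map_prod, map_pow, Finset.prod_ne_zero_iff]
        exact fun b _ => pow_ne_zero _ (by
          rw [← aeval_eq_eval, CAlgPts.aeval_linForm]; exact hφ1 b)
      have hHb : ∀ b, b ≠ a → ∀ L : MvPolynomial (Fin 3) k, eval (p b) (H * L) = 0 ∧ dv (v b) (p b) (H * L) = 0 := by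
        intro b hb L
        have hz : eval (p b) (CAlgPts.linForm (φ ⟨b, hb⟩)) = 0 := by
          rw [← aeval_eq_eval, CAlgPts.aeval_linForm]; exact hφ2 ⟨b, hb⟩
        obtain ⟨R, hR⟩ : CAlgPts.linForm (φ ⟨b, hb⟩) ^ 2 ∣ H * L :=
          Dvd.dvd.mul_right (Finset.dvd_prod_of_mem _ (Finset.mem_univ (⟨b, hb⟩ : {b // b ≠ a}))) L
        rw [hR, dv_mul, sq, dv_mul]
        simp [hz]
      obtain ⟨χ, hχ1, hχ2⟩ := CAlgPts.exists_sep (hvn a)
      have hχp := hχ2 _ (Submodule.mem_span_singleton_self _)
      obtain ⟨ξ, hξ1, -⟩ := CAlgPts.exists_sep (v := p a) (p := ⊥) (by simpa using hp a)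
      set L := CAlgPts.linForm ξ with hL
      set M := CAlgPts.linForm χ with hM
      have eL : eval (p a) L = ξ (p a) := by rw [hL, ← aeval_eq_eval, CAlgPts.aeval_linForm]
      have eM : eval (p a) M = 0 := by rw [hM, ← aeval_eq_eval, CAlgPts.aeval_linForm, hχp]
      set α := y.1 / (eval (p a) H * ξ (p a)) with hα
      set β := (y.2 - α * dv (v a) (p a) (H * L)) / (eval (p a) H * χ (v a)) with hβ
      refine ⟨α • (H * L) + β • (H * M),
        Submodule.add_mem _ (Submodule.smul_mem _ _ (hHh.mul (CAlgPts.linForm_isHomogeneous ξ)))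
          (Submodule.smul_mem _ _ (hHh.mul (CAlgPts.linForm_isHomogeneous χ))), funext fun b => ?_⟩
      rw [map_add, map_smul, map_smul]
      by_cases hba : b = a
      · subst hba
        rw [Pi.single_eq_same]
        simp only [Pi.add_apply, Pi.smul_apply, hΛ, Prod.smul_mk, Prod.mk_add_mk, smul_eq_mul, map_mul, eL, eM,
          dv_mul (v b) (p b) H M, mul_zero, add_zero, dv_linForm, hM]
        have e0 : eval (p b) (CAlgPts.linForm χ) = 0 := eM
        refine Prod.ext ?_ ?_
        · show α * (eval (p b) H * ξ (p b)) + β * _ = y.1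
          rw [e0, mul_zero, mul_zero, add_zero, hα, div_mul_cancel₀ _ (mul_ne_zero hHa hξ1)]
        · show α * _ + β * dv (v b) (p b) (H * CAlgPts.linForm χ) = y.2
          rw [dv_mul (v b) (p b) H (CAlgPts.linForm χ), e0, mul_zero, zero_add, dv_linForm, hβ,
            div_mul_cancel₀ _ (mul_ne_zero hHa hχ1)]
          ring
      · rw [Pi.single_eq_of_ne hba]
        simp only [Pi.add_apply, Pi.smul_apply, hΛ, (hHb b hba L).1, (hHb b hba L).2, (hHb b hba M).1, (hHb b hba M).2]
        simp
    intro y
    choose P hP1 hP2 using fun a => hone a (y a)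
    exact ⟨∑ a, P a, Submodule.sum_mem _ fun a _ => hP1 a, by rw [map_sum]; simp [hP2, Finset.univ_sum_single]⟩
  haveI := finite_fm (k := k) 13
  let Λ' : ↥(Fm k 13) →ₗ[k] (Fin 7 → k × k) := Λ.comp (Fm k 13).subtype
  have hsur : Function.Surjective Λ' := fun y => by
    obtain ⟨P, hP, h⟩ := hsurj y; exact ⟨⟨P, hP⟩, h⟩
  have e := LinearMap.finrank_range_add_finrank_ker Λ'
  rw [LinearMap.range_eq_top.2 hsur, finrank_top, Module.finrank_pi_fintype] at e
  have hk : Module.finrank k (LinearMap.range (combMap F G)) ≤ Module.finrank k (LinearMap.ker Λ') := by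
    have hmap : LinearMap.range (combMap F G) ≤ (LinearMap.ker Λ').map (Fm k 13).subtype := fun P hP =>
      ⟨⟨P, (hkill hP).1⟩, LinearMap.mem_ker.2 ((hkill hP).2 : Λ P = 0), rfl⟩
    exact (Submodule.finrank_mono hmap).trans (Submodule.finrank_map_le _ _)
  have := finrank_range_comb hF hF0 hc
  rw [(CAlgPts.finrank_forms 13 : Module.finrank k ↥(Fm k 13) = _)] at e
  simp [Nat.choose] at e
  omega

theorem singular_le_six [IsAlgClosed k] {F : MvPolynomial (Fin 3) k} (hF : F.IsHomogeneous 4) (hred : Squarefree F) :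
    ∃ s : Finset (Projectivization k (Fin 3 → k)), s.card ≤ 6 ∧
      ∀ p : Projectivization k (Fin 3 → k),
        eval p.rep F = 0 → (∀ i : Fin 3, eval p.rep (pderiv i F) = 0) → p ∈ s := by
  let S : Set (Projectivization k (Fin 3 → k)) :=
    {p | eval p.rep F = 0 ∧ ∀ i : Fin 3, eval p.rep (pderiv i F) = 0}
  have key : ∀ t : Finset (Projectivization k (Fin 3 → k)), ↑t ⊆ S → t.card ≤ 6 := by
    intro t ht
    by_contra hc
    obtain ⟨t', ht', hcard⟩ := Finset.exists_subset_card_eq (show 7 ≤ t.card by omega)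
    let a : Fin 7 → Projectivization k (Fin 3 → k) := fun i => ((Finset.equivFinOfCardEq hcard).symm i : t').1
    have ha : ∀ i, a i ∈ S := fun i => ht (ht' ((Finset.equivFinOfCardEq hcard).symm i).2)
    refine no_seven hF hred (fun i => (a i).rep) (fun i => Projectivization.rep_nonzero _) (fun i j hij hmem => hij ?_)
      (fun i => (ha i).1) (fun i => (ha i).2)
    obtain ⟨c, hc⟩ := Submodule.mem_span_singleton.1 hmem
    have e : a i = a j := by
      rw [← Projectivization.mk_rep (a i), ← Projectivization.mk_rep (a j), Projectivization.mk_eq_mk_iff']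
      exact ⟨c, hc⟩
    exact (Finset.equivFinOfCardEq hcard).symm.injective (Subtype.ext e)
  have hfin : S.Finite := by
    by_contra h
    obtain ⟨t, ht, hcard⟩ := (Set.not_finite.1 h).exists_subset_card_eq 7
    have := key t ht
    omega
  exact ⟨hfin.toFinset, key _ (by simp), fun p h1 h2 => hfin.mem_toFinset.2 ⟨h1, h2⟩⟩

end Groth.Agent.PlaneQuartic15
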